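import Groth.Prelude.Def_CDiv
import Groth.Prelude.Def_Pi1
import Groth.Agent.Depth.Local
import Groth.Agent.WDivLib.Basic
import Mathlib.RingTheory.DiscreteValuationRing.TFAE
import Mathlib.RingTheory.KrullDimension.PID

/-!
# Cartier divisors on integral schemes: regular loci, maximal bad points
-/

set_option autoImplicit false
universe u

open AlgebraicGeometry CategoryTheory TopologicalSpace Order

namespace Groth.Agent.CDivLib

variable {X : Scheme.{u}} [IsIntegral X]

/-- The rational function `f` is regular at `x`. -/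
def Reg (x : X) (f : X.functionField) : Prop :=
  f ∈ (algebraMap (X.presheaf.stalk x) X.functionField).range

theorem reg_algebraMap (x : X) (a : X.presheaf.stalk x) :
    Reg x (algebraMap _ X.functionField a) := ⟨a, rfl⟩

theorem Reg.mul {x : X} {f g : X.functionField} (hf : Reg x f) (hg : Reg x g) : Reg x (f * g) :=
  Subring.mul_mem _ hf hg

theorem Reg.add {x : X} {f g : X.functionField} (hf : Reg x f) (hg : Reg x g) : Reg x (f + g) :=
  Subring.add_mem _ hf hg

theorem reg_genericPoint (f : X.functionField) : Reg (genericPoint X) f := by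
  refine ⟨f, ?_⟩
  change X.presheaf.stalkSpecializes _ f = f
  rw [TopCat.Presheaf.stalkSpecializes_refl]; rfl

theorem mem_stalkUnits_iff {x : X} (f : CDiv.KUnits X) :
    f ∈ CDiv.stalkUnits X x ↔ Reg x (f : X.functionField) ∧ Reg x ((f : X.functionField)⁻¹) := by
  constructor
  · rintro ⟨a, rfl⟩
    exact ⟨⟨a, rfl⟩, ⟨(a⁻¹ : (X.presheaf.stalk x)ˣ), by simp⟩⟩
  · rintro ⟨⟨a, ha⟩, ⟨b, hb⟩⟩
    have hab : a * b = 1 := IsFractionRing.injective (X.presheaf.stalk x) X.functionField (by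
      rw [map_mul, ha, hb, map_one, mul_inv_cancel₀ f.ne_zero])
    exact ⟨Units.mkOfMulEqOne a b hab, Units.ext ha⟩

theorem germOf_eq_one_iff {x : X} (f : CDiv.KUnits X) :
    CDiv.germOf X x f = 1 ↔ Reg x (f : X.functionField) ∧ Reg x ((f : X.functionField)⁻¹) :=
  (QuotientGroup.eq_one_iff f).trans (mem_stalkUnits_iff f)

theorem isEffectiveAt_iff {D : CDiv.Divisor X} {x : X} {f : CDiv.KUnits X}
    (h : D.1 x = CDiv.germOf X x f) : CDiv.IsEffectiveAt D x ↔ Reg x (f : X.functionField) := by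
  constructor
  · rintro ⟨a, ha, hD⟩
    have h1 : f⁻¹ * Units.mk0 _ ha ∈ CDiv.stalkUnits X x := QuotientGroup.eq.1 (h.symm.trans hD)
    obtain ⟨-, ⟨b, hb⟩⟩ := (mem_stalkUnits_iff _).1 h1
    refine ⟨a * b, ?_⟩
    rw [map_mul, hb]
    simp only [Units.val_mul, Units.val_inv_eq_inv_val, Units.val_mk0, mul_inv_rev, inv_inv]
    rw [mul_comm _ (f : X.functionField), mul_left_comm, mul_inv_cancel₀ ha, mul_one]
  · rintro ⟨a, ha⟩
    refine ⟨a, by rw [ha]; exact f.ne_zero, ?_⟩
    rw [h]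
    exact congrArg _ (Units.ext ha.symm)

theorem exists_rep (D : CDiv.Divisor X) (x : X) :
    ∃ (U : X.Opens) (f : CDiv.KUnits X), x ∈ U ∧ ∀ y, y ∈ U → D.1 y = CDiv.germOf X y f := D.2 x

theorem Reg.of_specializes {x z : X} (h : z ⤳ x) {f : X.functionField} (hf : Reg x f) : Reg z f := by
  obtain ⟨a, rfl⟩ := hf
  refine ⟨X.presheaf.stalkSpecializes h a, ?_⟩
  change X.presheaf.stalkSpecializes _ (X.presheaf.stalkSpecializes h a) = X.presheaf.stalkSpecializes _ a
  rw [TopCat.Presheaf.stalkSpecializes_comp_apply]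

theorem exists_open_reg {x : X} {f : X.functionField} (hf : Reg x f) :
    ∃ U : X.Opens, x ∈ U ∧ ∀ y ∈ U, Reg y f := by
  obtain ⟨a, rfl⟩ := hf
  obtain ⟨U, hx, s, rfl⟩ := X.presheaf.exists_germ_eq a
  haveI : Nonempty U := ⟨⟨x, hx⟩⟩
  exact ⟨U, hx, fun y hy => ⟨X.presheaf.germ U y hy s, by
    rw [Scheme.algebraMap_germ_eq_germToFunctionField X hy s,
      Scheme.algebraMap_germ_eq_germToFunctionField X hx s]⟩⟩

theorem isClosed_supp (D : CDiv.Divisor X) : IsClosed (CDiv.supp D) := by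
  rw [← isOpen_compl_iff, isOpen_iff_forall_mem_open]
  intro x hx
  obtain ⟨U, f, hxU, hU⟩ := exists_rep D x
  have h1 : CDiv.germOf X x f = 1 := (hU x hxU).symm.trans (not_not.1 hx)
  obtain ⟨h2, h3⟩ := (germOf_eq_one_iff f).1 h1
  obtain ⟨V, hxV, hV⟩ := exists_open_reg h2
  obtain ⟨W, hxW, hW⟩ := exists_open_reg h3
  refine ⟨(U ⊓ V ⊓ W : X.Opens), fun y hy hy' => hy' ?_, (U ⊓ V ⊓ W).isOpen, ⟨⟨hxU, hxV⟩, hxW⟩⟩
  rw [hU y hy.1.1]
  exact (germOf_eq_one_iff f).2 ⟨hV y hy.1.2, hW y hy.2⟩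

theorem genericPoint_notMem_supp (D : CDiv.Divisor X) : genericPoint X ∉ CDiv.supp D := by
  obtain ⟨U, f, hxU, hU⟩ := exists_rep D (genericPoint X)
  exact not_not.2 ((hU _ hxU).trans ((germOf_eq_one_iff f).2 ⟨reg_genericPoint _, reg_genericPoint _⟩))

theorem eq_one_iff (D : CDiv.Divisor X) : D = 1 ↔ ∀ x, D.1 x = 1 :=
  ⟨fun h x => by rw [h]; rfl, fun h => Subtype.ext (funext h)⟩

variable [IsLocallyNoetherian X]

theorem coheight_lt_top (x : X) : coheight x < ⊤ := by
  have h := ringKrullDim_lt_top (R := X.presheaf.stalk x)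
  rw [ringKrullDim_stalk_eq_coheight] at h
  exact WithBot.coe_lt_coe.1 h

/-- A nonempty set of generalisations of `x` has a maximal element. -/
theorem exists_maximal_bad {P : X → Prop} {x : X} (hx : P x) :
    ∃ z, z ⤳ x ∧ P z ∧ ∀ w, w ⤳ z → w ≠ z → ¬ P w := by
  obtain ⟨c, ⟨z, hzx, hPz, rfl⟩, hmin⟩ := wellFounded_lt.has_min
    {c : ℕ∞ | ∃ z, z ⤳ x ∧ P z ∧ coheight z = c} ⟨_, x, specializes_rfl, hx, rfl⟩
  refine ⟨z, hzx, hPz, fun w hw hne hPw => ?_⟩
  have hlt : z < w := lt_iff_le_not_ge.2 ⟨Scheme.le_iff_specializes.2 hw, fun h' =>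
    hne ((hw.antisymm (Scheme.le_iff_specializes.1 h')).eq)⟩
  have h1 := Order.coheight_add_one_le hlt
  exact hmin (coheight w) ⟨w, hw.trans hzx, hPw, rfl⟩
    (lt_of_lt_of_le ((ENat.lt_add_one_iff (coheight_lt_top w).ne).2 le_rfl) h1)

/-- If `f` is regular at all proper generalisations of `x` but not at `x`, some `u` not regular
at `x` is multiplied into `O_x` by the maximal ideal. -/
theorem exists_socle {x : X} {f : X.functionField} (hgen : ∀ z, z ⤳ x → z ≠ x → Reg z f)
    (hf : ¬ Reg x f) :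
    ∃ u, ¬ Reg x u ∧ ∀ r ∈ IsLocalRing.maximalIdeal (X.presheaf.stalk x),
      Reg x (algebraMap _ X.functionField r * u) := by
  obtain ⟨_, ⟨V, hV, rfl⟩, hxV, -⟩ :=
    X.isBasis_affineOpens.exists_subset_of_mem_open (Set.mem_univ x) isOpen_univ
  replace hV : IsAffineOpen V := hV
  haveI : Nonempty V := ⟨⟨x, hxV⟩⟩
  let p := hV.primeIdealOf ⟨x, hxV⟩
  letI : Algebra Γ(X, V) (X.presheaf.stalk x) := (X.presheaf.germ V x hxV).hom.toAlgebra
  haveI : IsLocalization.AtPrime (X.presheaf.stalk x) p.asIdeal := hV.isLocalization_stalk ⟨x, hxV⟩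
  let J : Ideal (X.presheaf.stalk x) :=
    { carrier := {r | Reg x (algebraMap _ X.functionField r * f)}
      add_mem' := fun {a b} ha hb => by
        change Reg x _
        rw [map_add, add_mul]; exact Reg.add ha hb
      zero_mem' := by
        change Reg x _
        rw [map_zero, zero_mul]; exact Subring.zero_mem _
      smul_mem' := fun c {a} ha => by
        change Reg x _
        rw [smul_eq_mul, map_mul, mul_assoc]; exact Reg.mul (reg_algebraMap x c) ha }
  have hrad : IsLocalRing.maximalIdeal (X.presheaf.stalk x) ≤ J.radical := by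
    rw [Ideal.radical_eq_sInf]
    refine le_sInf fun q hq => ?_
    obtain ⟨hJq, hq⟩ := hq
    by_contra hne
    let qA : PrimeSpectrum Γ(X, V) := ⟨q.comap (algebraMap Γ(X, V) (X.presheaf.stalk x)), hq.comap _⟩
    have hqp : qA ≤ p := by
      change qA.asIdeal ≤ p.asIdeal
      intro a ha
      by_contra hap
      exact hq.ne_top (q.eq_top_of_isUnit_mem ha (IsLocalization.map_units (X.presheaf.stalk x) (⟨a, hap⟩ : p.asIdeal.primeCompl)))
    have hqne : qA ≠ p := fun h => hne (by
      rw [← IsLocalization.map_comap p.asIdeal.primeCompl (X.presheaf.stalk x) q,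
        show q.under Γ(X, V) = p.asIdeal from congrArg (·.asIdeal) h,
        IsLocalization.AtPrime.map_eq_maximalIdeal p.asIdeal (X.presheaf.stalk x)])
    let z := hV.fromSpec qA
    have hzx : z ⤳ x := by
      have hxp : hV.fromSpec p = x := hV.fromSpec_primeIdealOf ⟨x, hxV⟩
      rw [← hxp]
      exact ((PrimeSpectrum.le_iff_specializes qA p).1 hqp).map hV.fromSpec.continuous
    have hzV : z ∈ V := hzx.mem_open V.isOpen hxV
    have hzq : hV.primeIdealOf ⟨z, hzV⟩ = qA := by
      apply hV.fromSpec.isOpenEmbedding.injective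
      exact hV.fromSpec_primeIdealOf ⟨z, hzV⟩
    have hzne : z ≠ x := fun h => hqne (by
      rw [← hzq]; exact congrArg hV.primeIdealOf (Subtype.ext h))
    obtain ⟨c, hc⟩ := hgen z hzx hzne
    letI : Algebra Γ(X, V) (X.presheaf.stalk z) := (X.presheaf.germ V z hzV).hom.toAlgebra
    haveI : IsLocalization.AtPrime (X.presheaf.stalk z) (hV.primeIdealOf ⟨z, hzV⟩).asIdeal :=
      hV.isLocalization_stalk ⟨z, hzV⟩
    obtain ⟨⟨a, s, hs⟩, hcs⟩ :=
      IsLocalization.surj (hV.primeIdealOf ⟨z, hzV⟩).asIdeal.primeCompl c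
    have hsJ : algebraMap Γ(X, V) (X.presheaf.stalk x) s ∈ J := by
      refine ⟨algebraMap Γ(X, V) (X.presheaf.stalk x) a, ?_⟩
      have h2 := congrArg (algebraMap (X.presheaf.stalk z) X.functionField) hcs
      simp only [RingHom.algebraMap_toAlgebra, map_mul] at h2 hc ⊢
      rw [← hc, mul_comm]
      have e1 : ∀ (y : X) (hy : y ∈ V) (t : Γ(X, V)),
          (algebraMap (X.presheaf.stalk y) X.functionField) (X.presheaf.germ V y hy t) =
            X.germToFunctionField V t := fun y hy t => Scheme.algebraMap_germ_eq_germToFunctionField X hy t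
      simp only [RingHom.algebraMap_toAlgebra] at e1
      rw [e1 z hzV, e1 z hzV] at h2
      rw [e1 x hxV, e1 x hxV]
      exact h2.symm
    have := hJq hsJ
    rw [hzq] at hs
    exact hs this
  obtain ⟨N, hN⟩ := Ideal.exists_pow_le_of_le_radical_of_fg hrad (IsNoetherian.noetherian _)
  classical
  have hex : ∃ n, IsLocalRing.maximalIdeal (X.presheaf.stalk x) ^ n ≤ J := ⟨N, hN⟩
  obtain ⟨n, hn⟩ := Nat.exists_eq_succ_of_ne_zero (fun h0 : Nat.find hex = 0 => hf (by
    have h2 := Nat.find_spec hex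
    rw [h0, pow_zero, Ideal.one_eq_top] at h2
    have h3 : Reg x (algebraMap (X.presheaf.stalk x) X.functionField 1 * f) := h2 (x := 1) trivial
    rwa [map_one, one_mul] at h3))
  have hspec := Nat.find_spec hex
  obtain ⟨r, hr, hrJ⟩ := SetLike.not_le_iff_exists.1 (Nat.find_min hex (m := n) (by omega))
  refine ⟨algebraMap _ X.functionField r * f, hrJ, fun r' hr' => ?_⟩
  rw [← mul_assoc, ← map_mul]
  rw [hn] at hspec
  exact hspec (by rw [pow_succ']; exact Ideal.mul_mem_mul hr' hr)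

theorem depth_eq_one {x : X} {f : X.functionField} (hgen : ∀ z, z ⤳ x → z ≠ x → Reg z f)
    (hf : ¬ Reg x f) : LocCoh.depth (X.presheaf.stalk x) (X.presheaf.stalk x) = 1 := by
  obtain ⟨u, hu, hmu⟩ := exists_socle hgen hf
  obtain ⟨a, b, hb, rfl⟩ := IsFractionRing.div_surjective (X.presheaf.stalk x) u
  have hb0 : algebraMap (X.presheaf.stalk x) X.functionField b ≠ 0 :=
    (map_ne_zero_iff _ (IsFractionRing.injective _ _)).2 (nonZeroDivisors.ne_zero hb)
  have hbm : b ∈ IsLocalRing.maximalIdeal (X.presheaf.stalk x) := fun hunit => hu ⟨a * ↑hunit.unit⁻¹, by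
    rw [map_mul, eq_div_iff hb0, mul_assoc, ← map_mul, IsUnit.val_inv_mul, map_one, mul_one]⟩
  have hreg : IsSMulRegular (X.presheaf.stalk x) b := IsSMulRegular.of_right_eq_zero_of_smul fun z hz =>
    (mul_eq_zero.1 hz).resolve_left (nonZeroDivisors.ne_zero hb)
  have hmem : ∀ c : X.presheaf.stalk x,
      (Submodule.Quotient.mk c : QuotSMulTop b (X.presheaf.stalk x)) = 0 ↔ b ∣ c := fun c => by
    rw [Submodule.Quotient.mk_eq_zero, Submodule.mem_smul_pointwise_iff_exists]
    simp [dvd_iff_exists_eq_mul_right, eq_comm]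
  rw [Depth.depth_eq_idealDepth, ← Depth.idealDepth_quotSMulTop_add_one hbm hreg,
    Depth.idealDepth_eq_zero_iff.2 ⟨IsLocalRing.maximalIdeal _, ?_, le_rfl⟩, zero_add]
  rw [AssociatedPrimes.mem_iff, isAssociatedPrime_iff]
  refine ⟨(IsLocalRing.maximalIdeal.isMaximal _).isPrime, Submodule.Quotient.mk a, ?_⟩
  refine le_antisymm (fun r hr => ?_) (IsLocalRing.le_maximalIdeal fun htop => hu ?_)
  · rw [Submodule.mem_colon_singleton, Submodule.mem_bot, ← Submodule.Quotient.mk_smul, hmem]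
    obtain ⟨c, hc⟩ := hmu r hr
    rw [← mul_div_assoc, eq_div_iff hb0, ← map_mul, ← map_mul] at hc
    exact ⟨c, by rw [smul_eq_mul, ← IsFractionRing.injective _ _ hc, mul_comm]⟩
  · have h1 : (1 : X.presheaf.stalk x) ∈ Submodule.colon (⊥ : Submodule (X.presheaf.stalk x)
        (QuotSMulTop b (X.presheaf.stalk x))) {Submodule.Quotient.mk a} := by rw [htop]; trivial
    rw [Submodule.mem_colon_singleton, Submodule.mem_bot, one_smul, hmem] at h1
    obtain ⟨c, rfl⟩ := h1
    exact ⟨c, by rw [map_mul, mul_div_cancel_left₀ _ hb0]⟩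

theorem dvr_of_bad {x : X} [IsIntegrallyClosed (X.presheaf.stalk x)] {f : X.functionField}
    (hgen : ∀ z, z ⤳ x → z ≠ x → Reg z f) (hf : ¬ Reg x f) :
    IsDiscreteValuationRing (X.presheaf.stalk x) ∧ coheight x = 1 := by
  obtain ⟨u, hu, hmu⟩ := exists_socle hgen hf
  have hnf : ¬ IsField (X.presheaf.stalk x) := by
    intro hF
    refine hu ?_
    obtain ⟨a, b, hb, rfl⟩ := IsFractionRing.div_surjective (X.presheaf.stalk x) u
    obtain ⟨c, hc⟩ := hF.mul_inv_cancel (nonZeroDivisors.ne_zero hb)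
    refine ⟨a * c, ?_⟩
    rw [eq_div_iff ((map_ne_zero_iff _ (IsFractionRing.injective _ _)).2 (nonZeroDivisors.ne_zero hb)),
      ← map_mul, mul_assoc, mul_comm c b, hc, mul_one]
  have hm0 : IsLocalRing.maximalIdeal (X.presheaf.stalk x) ≠ ⊥ :=
    fun h => hnf (IsLocalRing.isField_iff_maximalIdeal_eq.2 h)
  obtain ⟨π, hπ, w, hw, hwu⟩ : ∃ π ∈ IsLocalRing.maximalIdeal (X.presheaf.stalk x),
      ∃ w : X.presheaf.stalk x, algebraMap _ X.functionField w = algebraMap _ X.functionField π * u ∧ IsUnit w := by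
    by_contra hcon
    push Not at hcon
    let N : Submodule (X.presheaf.stalk x) X.functionField :=
      Submodule.map (Algebra.linearMap (X.presheaf.stalk x) X.functionField)
        (IsLocalRing.maximalIdeal (X.presheaf.stalk x))
    have hint : IsIntegral (X.presheaf.stalk x) u := by
      refine isIntegral_of_smul_mem_submodule N (fun h => hm0 ?_)
        ((IsNoetherian.noetherian _).map _) u ?_
      · exact Submodule.map_injective_of_injective
          (IsFractionRing.injective (X.presheaf.stalk x) X.functionField)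
          (h.trans (Submodule.map_bot _).symm)
      · rintro _ ⟨r, hr, rfl⟩
        obtain ⟨c, hc⟩ := hmu r hr
        exact ⟨c, hcon r hr c hc, hc.trans (mul_comm _ _)⟩
    obtain ⟨c, hc⟩ := IsIntegrallyClosed.algebraMap_eq_of_integral hint
    exact hu ⟨c, hc⟩
  have hpr : (IsLocalRing.maximalIdeal (X.presheaf.stalk x)).IsPrincipal := by
    refine ⟨⟨π, le_antisymm (fun r hr => ?_) ((Submodule.span_singleton_le_iff_mem _ _).2 hπ)⟩⟩
    obtain ⟨c, hc⟩ := hmu r hr
    rw [Submodule.mem_span_singleton]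
    refine ⟨c * ↑hwu.unit⁻¹, IsFractionRing.injective (X.presheaf.stalk x) X.functionField ?_⟩
    have h1 : algebraMap _ X.functionField w * algebraMap _ X.functionField ((hwu.unit⁻¹ : (X.presheaf.stalk x)ˣ) : X.presheaf.stalk x) = 1 := by
      rw [← map_mul, IsUnit.mul_val_inv, map_one]
    rw [smul_eq_mul, map_mul, map_mul, hc]
    calc _ = algebraMap _ X.functionField r * (algebraMap _ X.functionField ((hwu.unit⁻¹ : (X.presheaf.stalk x)ˣ) : X.presheaf.stalk x) *
            (algebraMap _ X.functionField π * u)) := by ring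
      _ = _ := by rw [← hw, mul_comm (algebraMap _ X.functionField ((hwu.unit⁻¹ : (X.presheaf.stalk x)ˣ) : X.presheaf.stalk x)), h1, mul_one]
  haveI hdvr : IsDiscreteValuationRing (X.presheaf.stalk x) :=
    ((IsDiscreteValuationRing.TFAE (X.presheaf.stalk x) hnf).out 4 0).1 hpr
  refine ⟨hdvr, ?_⟩
  have h2 := IsPrincipalIdealRing.ringKrullDim_eq_one _ hnf
  rw [ringKrullDim_stalk_eq_coheight] at h2
  exact_mod_cast h2

theorem reg_of_forall_coheight_one (hX : Pi1.IsNormalScheme X) {x : X} {f : X.functionField}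
    (h : ∀ z, z ⤳ x → coheight z = 1 → Reg z f) : Reg x f := by
  by_contra hx
  obtain ⟨z, hzx, hz, hmax⟩ := exists_maximal_bad (P := fun z => ¬ Reg z f) hx
  haveI := (hX z).2
  exact hz (h z hzx (dvr_of_bad (fun w hw hne => not_not.1 (hmax w hw hne)) hz).2)

theorem ord_nonneg_of_reg {x : X} [IsDiscreteValuationRing (X.presheaf.stalk x)]
    (hx : coheight x = 1) {f : X.functionField} (hf : Reg x f) :
    0 ≤ Scheme.ord f x := by
  obtain ⟨a, rfl⟩ := hf
  by_cases ha : a = 0
  · simp [ha]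
  obtain ⟨π, hπ⟩ := IsDiscreteValuationRing.exists_irreducible (X.presheaf.stalk x)
  obtain ⟨n, v, rfl⟩ := IsDiscreteValuationRing.eq_unit_mul_pow_irreducible ha hπ
  have hπ0 : algebraMap _ X.functionField π ≠ 0 :=
    (map_ne_zero_iff _ (IsFractionRing.injective _ _)).2 hπ.ne_zero
  rw [map_mul, map_pow, Scheme.ord_mul ((map_ne_zero_iff _ (IsFractionRing.injective _ _)).2 v.ne_zero)
    (pow_ne_zero _ hπ0), WDivLib.ord_algebraMap_of_isUnit v.isUnit, WDivLib.ord_pow hπ0,
    WDivLib.ord_algebraMap_of_span_eq_maximalIdeal hx hπ.ne_zero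
      (IsDiscreteValuationRing.irreducible_iff_uniformizer π |>.1 hπ).symm, zero_add, mul_one]
  exact Int.natCast_nonneg n

theorem ord_nonneg_iff {x : X} [IsDiscreteValuationRing (X.presheaf.stalk x)]
    (hx : coheight x = 1) {f : X.functionField} (hf : f ≠ 0) :
    0 ≤ Scheme.ord f x ↔ Reg x f := by
  refine ⟨fun h => ?_, ord_nonneg_of_reg hx⟩
  by_contra hnot
  obtain ⟨a, ha⟩ : Reg x f⁻¹ :=
    (ValuationRing.isInteger_or_isInteger (X.presheaf.stalk x) f).resolve_left hnot
  have ha0 : a ≠ 0 := fun h0 => inv_ne_zero hf (by rw [← ha, h0, map_zero])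
  obtain ⟨π, hπ⟩ := IsDiscreteValuationRing.exists_irreducible (X.presheaf.stalk x)
  obtain ⟨n, v, rfl⟩ := IsDiscreteValuationRing.eq_unit_mul_pow_irreducible ha0 hπ
  have hπ0 : algebraMap _ X.functionField π ≠ 0 :=
    (map_ne_zero_iff _ (IsFractionRing.injective _ _)).2 hπ.ne_zero
  rcases n with - | n
  · refine hnot ⟨↑v⁻¹, ?_⟩
    rw [← inv_inv f, ← ha, pow_zero, mul_one]
    simp
  · have h1 := WDivLib.ord_inv hf x
    rw [← ha, map_mul, map_pow, Scheme.ord_mul ((map_ne_zero_iff _ (IsFractionRing.injective _ _)).2 v.ne_zero)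
      (pow_ne_zero _ hπ0), WDivLib.ord_algebraMap_of_isUnit v.isUnit, WDivLib.ord_pow hπ0,
      WDivLib.ord_algebraMap_of_span_eq_maximalIdeal hx hπ.ne_zero
        (IsDiscreteValuationRing.irreducible_iff_uniformizer π |>.1 hπ).symm] at h1
    push_cast at h1
    omega

theorem isDVR_of_normal (hX : Pi1.IsNormalScheme X) {x : X} (hx : coheight x = 1) :
    IsDiscreteValuationRing (X.presheaf.stalk x) := by
  haveI := (hX x).2
  have hdim := ringKrullDim_stalk_eq_coheight x
  rw [hx] at hdim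
  have hnf : ¬ IsField (X.presheaf.stalk x) := fun hF => by
    rw [ringKrullDim_eq_zero_of_isField hF] at hdim
    exact absurd hdim (by simp)
  have h4 : (IsIntegrallyClosed (X.presheaf.stalk x) ∧ ∃! P : Ideal (X.presheaf.stalk x), P ≠ ⊥ ∧ P.IsPrime) ↔
      IsDiscreteValuationRing (X.presheaf.stalk x) := (IsDiscreteValuationRing.TFAE (X.presheaf.stalk x) hnf).out 3 0
  refine h4.1 ⟨inferInstance,
    IsLocalRing.maximalIdeal _, ⟨fun h => hnf (IsLocalRing.isField_iff_maximalIdeal_eq.2 h),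
      (IsLocalRing.maximalIdeal.isMaximal _).isPrime⟩, fun P hP => ?_⟩
  haveI : Ring.KrullDimLE 1 (X.presheaf.stalk x) := krullDimLE_of_coheight_le hx.le
  haveI := hP.2
  exact IsLocalRing.eq_maximalIdeal (Ring.krullDimLE_one_iff_of_noZeroDivisors.mp inferInstance P hP.1 hP.2)

end Groth.Agent.CDivLib
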