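import Groth.Agent.CDivLib.Basic

/-!
# Generisations of a point as primes of its local ring
-/

set_option autoImplicit false
universe u

open AlgebraicGeometry CategoryTheory TopologicalSpace Order

namespace Groth.Agent.CDivLib

variable {X : Scheme.{u}}

/-- The prime of `O_x` belonging to a generisation `z` of `x`. -/
noncomputable def genPrime {z x : X} (h : z ⤳ x) : Ideal (X.presheaf.stalk x) :=
  (IsLocalRing.maximalIdeal (X.presheaf.stalk z)).comap (X.presheaf.stalkSpecializes h).hom

theorem genPrime_isPrime {z x : X} (h : z ⤳ x) : (genPrime h).IsPrime := Ideal.comap_isPrime _ _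

theorem genPrime_affine {V : X.Opens} (hV : IsAffineOpen V) {z x : X} (h : z ⤳ x) (hx : x ∈ V) :
    (genPrime h).comap (X.presheaf.germ V x hx).hom =
      (hV.primeIdealOf ⟨z, h.mem_open V.isOpen hx⟩).asIdeal := by
  have hz := h.mem_open V.isOpen hx
  letI : Algebra Γ(X, V) (X.presheaf.stalk z) := (X.presheaf.germ V z hz).hom.toAlgebra
  haveI : IsLocalization.AtPrime (X.presheaf.stalk z) (hV.primeIdealOf ⟨z, hz⟩).asIdeal :=
    hV.isLocalization_stalk ⟨z, hz⟩
  rw [genPrime, Ideal.comap_comap, ← CommRingCat.hom_comp, TopCat.Presheaf.germ_stalkSpecializes]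
  exact IsLocalization.AtPrime.under_maximalIdeal (X.presheaf.stalk z) (hV.primeIdealOf ⟨z, hz⟩).asIdeal

theorem map_genPrime {z x : X} (h : z ⤳ x) :
    (genPrime h).map (X.presheaf.stalkSpecializes h).hom = IsLocalRing.maximalIdeal (X.presheaf.stalk z) := by
  refine le_antisymm Ideal.map_comap_le ?_
  obtain ⟨_, ⟨V, hV, rfl⟩, hxV, -⟩ :=
    X.isBasis_affineOpens.exists_subset_of_mem_open (Set.mem_univ x) isOpen_univ
  replace hV : IsAffineOpen V := hV
  have hz := h.mem_open V.isOpen hxV
  letI : Algebra Γ(X, V) (X.presheaf.stalk z) := (X.presheaf.germ V z hz).hom.toAlgebra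
  haveI : IsLocalization.AtPrime (X.presheaf.stalk z) (hV.primeIdealOf ⟨z, hz⟩).asIdeal :=
    hV.isLocalization_stalk ⟨z, hz⟩
  rw [← IsLocalization.AtPrime.map_eq_maximalIdeal (hV.primeIdealOf ⟨z, hz⟩).asIdeal (X.presheaf.stalk z),
    ← genPrime_affine hV h hxV, Ideal.map_le_iff_le_comap]
  intro a ha
  have h2 := Ideal.mem_map_of_mem (X.presheaf.stalkSpecializes h).hom (Ideal.mem_comap.1 ha)
  rw [Ideal.mem_comap]
  change (X.presheaf.germ V z hz) a ∈ _
  rw [← TopCat.Presheaf.germ_stalkSpecializes_apply (hy := hxV)]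
  exact h2

theorem height_genPrime {z x : X} (h : z ⤳ x) : (genPrime h).height = coheight z := by
  obtain ⟨_, ⟨V, hV, rfl⟩, hxV, -⟩ :=
    X.isBasis_affineOpens.exists_subset_of_mem_open (Set.mem_univ x) isOpen_univ
  replace hV : IsAffineOpen V := hV
  haveI := genPrime_isPrime h
  letI : Algebra Γ(X, V) (X.presheaf.stalk x) := (X.presheaf.germ V x hxV).hom.toAlgebra
  haveI : IsLocalization.AtPrime (X.presheaf.stalk x) (hV.primeIdealOf ⟨x, hxV⟩).asIdeal :=
    hV.isLocalization_stalk ⟨x, hxV⟩
  have he : (genPrime h).under Γ(X, V) = (hV.primeIdealOf ⟨z, h.mem_open V.isOpen hxV⟩).asIdeal :=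
    genPrime_affine hV h hxV
  rw [← IsLocalization.height_under (hV.primeIdealOf ⟨x, hxV⟩).asIdeal.primeCompl, he]
  refine (idealHeight_eq_coheight Γ(X, V) (hV.primeIdealOf ⟨z, h.mem_open V.isOpen hxV⟩)).trans ?_
  refine (coheight_eq_of_isOpenImmersion hV.fromSpec).symm.trans ?_
  exact congrArg coheight (hV.fromSpec_primeIdealOf ⟨z, h.mem_open V.isOpen hxV⟩)

theorem genPrime_injective {z z' x : X} (h : z ⤳ x) (h' : z' ⤳ x) (e : genPrime h = genPrime h') :
    z = z' := by
  obtain ⟨_, ⟨V, hV, rfl⟩, hxV, -⟩ :=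
    X.isBasis_affineOpens.exists_subset_of_mem_open (Set.mem_univ x) isOpen_univ
  replace hV : IsAffineOpen V := hV
  have h1 := genPrime_affine hV h hxV
  rw [e, genPrime_affine hV h' hxV] at h1
  have h2 := congrArg hV.fromSpec (PrimeSpectrum.ext h1)
  rw [hV.fromSpec_primeIdealOf, hV.fromSpec_primeIdealOf] at h2
  exact h2.symm

theorem exists_genPrime_eq {x : X} (q : Ideal (X.presheaf.stalk x)) [q.IsPrime] :
    ∃ (z : X) (h : z ⤳ x), genPrime h = q := by
  obtain ⟨_, ⟨V, hV, rfl⟩, hxV, -⟩ :=
    X.isBasis_affineOpens.exists_subset_of_mem_open (Set.mem_univ x) isOpen_univ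
  replace hV : IsAffineOpen V := hV
  let p := hV.primeIdealOf ⟨x, hxV⟩
  letI : Algebra Γ(X, V) (X.presheaf.stalk x) := (X.presheaf.germ V x hxV).hom.toAlgebra
  haveI : IsLocalization.AtPrime (X.presheaf.stalk x) p.asIdeal := hV.isLocalization_stalk ⟨x, hxV⟩
  let qA : PrimeSpectrum Γ(X, V) := ⟨q.comap (algebraMap Γ(X, V) (X.presheaf.stalk x)), Ideal.comap_isPrime _ _⟩
  have hle : qA ≤ p := fun a ha => by_contra fun hap => Ideal.IsPrime.ne_top ‹_›
    (q.eq_top_of_isUnit_mem ha (IsLocalization.map_units (X.presheaf.stalk x) (⟨a, hap⟩ : p.asIdeal.primeCompl)))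
  have hzx : hV.fromSpec qA ⤳ x := by
    have hxp : hV.fromSpec p = x := hV.fromSpec_primeIdealOf ⟨x, hxV⟩
    rw [← hxp]
    exact ((PrimeSpectrum.le_iff_specializes qA p).1 hle).map hV.fromSpec.continuous
  refine ⟨_, hzx, ?_⟩
  haveI := genPrime_isPrime hzx
  have h1 := genPrime_affine hV hzx hxV
  have h2 : hV.primeIdealOf ⟨hV.fromSpec qA, hzx.mem_open V.isOpen hxV⟩ = qA :=
    hV.fromSpec.isOpenEmbedding.injective (hV.fromSpec_primeIdealOf _)
  rw [h2] at h1
  have h3 : (genPrime hzx).under Γ(X, V) = q.under Γ(X, V) := h1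
  rw [← IsLocalization.map_comap p.asIdeal.primeCompl (X.presheaf.stalk x) (genPrime hzx),
    ← IsLocalization.map_comap p.asIdeal.primeCompl (X.presheaf.stalk x) q]
  exact congrArg _ h3

variable [IsIntegral X]

theorem algebraMap_stalkSpecializes {z x : X} (h : z ⤳ x) (a : X.presheaf.stalk x) :
    algebraMap _ X.functionField (X.presheaf.stalkSpecializes h a) = algebraMap _ X.functionField a := by
  change X.presheaf.stalkSpecializes _ (X.presheaf.stalkSpecializes h a) = X.presheaf.stalkSpecializes _ a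
  rw [TopCat.Presheaf.stalkSpecializes_comp_apply]

variable [IsLocallyNoetherian X]

/-- A generator of the prime of a codimension one generisation has order one there and zero at the
other codimension one generisations. -/
theorem ord_generator {x x₀ : X} (h₀ : x₀ ⤳ x) (hx₀ : coheight x₀ = 1) {a : X.presheaf.stalk x}
    (ha0 : a ≠ 0) (ha : genPrime h₀ = Ideal.span {a}) {z : X} (hz : z ⤳ x) (hz1 : coheight z = 1)
    [Decidable (z = x₀)] :
    Scheme.ord (algebraMap _ X.functionField a) z = if z = x₀ then 1 else 0 := by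
  rw [← algebraMap_stalkSpecializes hz a]
  split_ifs with he
  · subst he
    refine WDivLib.ord_algebraMap_of_span_eq_maximalIdeal hz1 (fun h0 => ha0 ?_) ?_
    · refine IsFractionRing.injective (X.presheaf.stalk x) X.functionField ?_
      rw [← algebraMap_stalkSpecializes hz a, h0, map_zero, map_zero]
    · rw [← map_genPrime hz, ha, Ideal.map_span, Set.image_singleton]
  · refine WDivLib.ord_algebraMap_of_isUnit (by_contra fun hu => he ?_)
    haveI := genPrime_isPrime hz
    haveI := genPrime_isPrime h₀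
    refine genPrime_injective hz h₀ (le_antisymm ?_ ?_)
    swap
    · rw [ha, Ideal.span_singleton_le_iff_mem]
      exact hu
    · by_contra hne
      have hle : genPrime h₀ ≤ genPrime hz := by rw [ha, Ideal.span_singleton_le_iff_mem]; exact hu
      have h1 := Ideal.height_strict_mono_of_isPrime (lt_of_le_not_ge hle hne)
      rw [height_genPrime, height_genPrime, hx₀, hz1] at h1
      exact lt_irrefl _ h1

end Groth.Agent.CDivLib
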